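import Groth.Agent.AlgSpVal.ValThrough
import Groth.Agent.AlgSpVal.ValExtend
import Groth.Agent.SchTop.Maximal
import Mathlib.AlgebraicGeometry.ValuativeCriterion

/-!
# Valuative criteria tested on a dense quasi-compact subspace
-/

set_option autoImplicit false
set_option linter.style.haveILetI false
set_option backward.isDefEq.respectTransparency false
set_option backward.isDefEq.respectTransparency.types false

universe u

open CategoryTheory Limits AlgebraicGeometry IsLocalRing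

namespace Groth.Agent.H4Val

open Groth.Agent.AlgSpVal

variable {X Y Z : Scheme.{u}}

/-- A point in the closure of the range of a quasi-compact morphism specialises from the range. -/
theorem exists_specializes_of_mem_closure (h : Z ⟶ Y) [QuasiCompact h] (y : Y) (hy : y ∈ closure (Set.range h)) :
    ∃ z, h z ⤳ y := by
  obtain ⟨V, hV, hyV, -⟩ := exists_isAffineOpen_mem_and_subset (x := y) (U := (⊤ : Y.Opens)) trivial
  have hc : CompactSpace (h ⁻¹ᵁ V : Z.Opens) :=
    isCompact_iff_compactSpace.1 (h.isCompact_preimage hV.isCompact)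
  obtain ⟨R, ψ, hψ⟩ := compactSpace_iff_exists.1 hc
  let g : Spec R ⟶ Spec Γ(Y, V) := ψ ≫ (h ∣_ V) ≫ hV.isoSpec.hom
  obtain ⟨φ, hφ⟩ : ∃ φ, Spec.map φ = g := ⟨Spec.preimage g, Spec.map_preimage g⟩
  have hres : ∀ z, V.ι ((h ∣_ V) z) = h ((h ⁻¹ᵁ V).ι z) := fun z => by
    rw [← Scheme.Hom.comp_apply, morphismRestrict_ι, Scheme.Hom.comp_apply]
  have hmem : (hV.isoSpec.hom ⟨y, hyV⟩ : PrimeSpectrum Γ(Y, V)) ∈
      closure (Set.range (PrimeSpectrum.comap φ.hom)) := by
    have h1 : (⟨y, hyV⟩ : (V : Scheme)) ∈ closure (Set.range (h ∣_ V)) := by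
      have h2 : (⟨y, hyV⟩ : (V : Scheme)) ∈ V.ι ⁻¹' closure (Set.range h) := hy
      rw [V.ι.isOpenEmbedding.isOpenMap.preimage_closure_eq_closure_preimage V.ι.continuous] at h2
      refine closure_mono ?_ h2
      rintro v ⟨z, hz⟩
      refine ⟨⟨z, show h z ∈ V from hz ▸ v.2⟩, V.ι.isOpenEmbedding.injective ?_⟩
      exact (hres _).trans hz
    have h3 := map_mem_closure hV.isoSpec.hom.continuous h1
      (t := Set.range (Spec.map φ)) (fun v ⟨z, hz⟩ => by
        obtain ⟨q, hq⟩ := hψ z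
        refine ⟨q, ?_⟩
        rw [hφ]
        show hV.isoSpec.hom ((h ∣_ V) (ψ q)) = hV.isoSpec.hom v
        rw [hq, hz])
    exact h3
  obtain ⟨q, hq⟩ := Groth.Agent.SchTop.exists_specializes_of_mem_closure_range φ _ hmem
  have hq' : g q ⤳ hV.isoSpec.hom ⟨y, hyV⟩ := by rw [← hφ]; exact hq
  have h4 := ((hV.isoSpec.hom.homeomorph.isInducing.specializes_iff).1
    (show hV.isoSpec.hom ((h ∣_ V) (ψ q)) ⤳ hV.isoSpec.hom ⟨y, hyV⟩ from hq')).map V.ι.continuous
  refine ⟨(h ⁻¹ᵁ V).ι (ψ q), ?_⟩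
  rw [← hres]
  exact h4

/-- A morphism from the spectrum of a local ring factors through a stalk. -/
theorem exists_stalk_factor {A : Type u} [CommRing A] [IsLocalRing A] (g : Spec (CommRingCat.of A) ⟶ Y) (y : Y)
    (hy : g (closedPoint A) = y) :
    ∃ σ : Y.presheaf.stalk y ⟶ CommRingCat.of A, Spec.map σ ≫ Y.fromSpecStalk y = g := by
  subst hy
  exact ⟨Scheme.stalkClosedPointTo g, Scheme.Spec_stalkClosedPointTo_fromSpecStalk g⟩

/-- Morphisms from the spectrum of a local ring are detected on a local extension. -/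
theorem hom_ext_of_local {A A' : CommRingCat.{u}} [IsLocalRing A] [IsLocalRing A'] (m : A ⟶ A') [IsLocalHom m.hom]
    (hm : Function.Injective m.hom) (g₁ g₂ : Spec A ⟶ Y) (h : Spec.map m ≫ g₁ = Spec.map m ≫ g₂) : g₁ = g₂ := by
  have hc : Spec.map m (closedPoint A') = closedPoint A := comap_closedPoint (S := A') m.hom
  have hg : g₁ (closedPoint A) = g₂ (closedPoint A) := by
    rw [← hc, ← Scheme.Hom.comp_apply, ← Scheme.Hom.comp_apply, h]
  obtain ⟨σ₁, h₁⟩ := exists_stalk_factor (A := A) g₁ _ hg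
  obtain ⟨σ₂, h₂⟩ := exists_stalk_factor (A := A) g₂ _ rfl
  have h' := ((congrArg (CategoryStruct.comp (Spec.map m)) h₁).trans h).trans
    (congrArg (CategoryStruct.comp (Spec.map m)) h₂).symm
  rw [← Spec.map_comp_assoc, ← Spec.map_comp_assoc, cancel_mono] at h'
  haveI : Mono m := ConcreteCategory.mono_of_injective _ hm
  refine h₁.symm.trans (Eq.trans ?_ h₂)
  rw [(cancel_mono m).1 (Spec.map_injective h')]

section

variable (h : Z ⟶ Y) (f : Y ⟶ X)

/-- Refined uniqueness. -/
def RefUniq : Prop :=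
  ∀ (z : ↥Z) (R : ValuationSubring ↑(Z.residueField z)) (φ : Spec (CommRingCat.of ↥R) ⟶ X),
    Spec.map (CommRingCat.ofHom R.subtype) ≫ φ = Z.fromSpecResidueField z ≫ h ≫ f →
    ∀ φ₁ φ₂ : Spec (CommRingCat.of ↥R) ⟶ Y,
      Spec.map (CommRingCat.ofHom R.subtype) ≫ φ₁ = Z.fromSpecResidueField z ≫ h → φ₁ ≫ f = φ →
      Spec.map (CommRingCat.ofHom R.subtype) ≫ φ₂ = Z.fromSpecResidueField z ≫ h → φ₂ ≫ f = φ →
      φ₁ = φ₂

theorem refUniq_of_isSeparated [IsSeparated f] : RefUniq h f := by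
  intro z R φ hφ φ₁ φ₂ h₁ h₁' h₂ h₂'
  let S : ValuativeCommSq f :=
    { R := R, K := Z.residueField z, i₁ := Z.fromSpecResidueField z ≫ h, i₂ := φ,
      commSq := ⟨((Category.assoc _ _ _).trans hφ.symm)⟩ }
  haveI := IsSeparated.valuativeCriterion f S
  have := Subsingleton.elim (α := S.commSq.LiftStruct) ⟨φ₁, h₁, h₁'⟩ ⟨φ₂, h₂, h₂'⟩
  exact congrArg CommSq.LiftStruct.l this

theorem isSeparated_of_refUniq [QuasiCompact h] [QuasiSeparated f] (hd : DenseRange h.base) (hu : RefUniq h f) :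
    IsSeparated f := by
  refine ⟨?_⟩
  refine .of_isPreimmersion _ (isClosed_of_closure_subset fun p hp => ?_)
  obtain ⟨y₁, hy₁⟩ := exists_specializes_of_mem_closure (pullback.diagonal f) p hp
  obtain ⟨z, hz⟩ := exists_specializes_of_mem_closure h y₁ (hd.closure_range.ge trivial)
  have hk : (Z.fromSpecResidueField z ≫ h ≫ pullback.diagonal f) (closedPoint (Z.residueField z)) ⤳ p := by
    rw [Scheme.Hom.comp_apply, Scheme.Hom.comp_apply, Scheme.fromSpecResidueField_apply]
    exact (hz.map (pullback.diagonal f).continuous).trans hy₁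
  obtain ⟨A, i, hi, hik₀⟩ := exists_valuationRing_through (K := Z.residueField z) _ p hk
  have hik : Spec.map (CommRingCat.ofHom A.subtype) ≫ i = Z.fromSpecResidueField z ≫ h ≫ pullback.diagonal f := hik₀
  have h12 : i ≫ pullback.fst f f = i ≫ pullback.snd f f := by
    refine hu z A (i ≫ pullback.fst f f ≫ f) ?_ _ _ ?_ (Category.assoc _ _ _) ?_ ?_
    · rw [reassoc_of% hik, pullback.diagonal_fst_assoc]
    · rw [reassoc_of% hik, pullback.diagonal_fst, Category.comp_id]
    · rw [reassoc_of% hik, pullback.diagonal_snd, Category.comp_id]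
    · rw [Category.assoc, pullback.condition]
  refine ⟨(i ≫ pullback.fst f f) (closedPoint A), ?_⟩
  rw [← hi, ← Scheme.Hom.comp_apply]
  refine congrArg (fun k : Spec (CommRingCat.of A) ⟶ pullback f f => k (closedPoint A)) ?_
  apply pullback.hom_ext
  · rw [Category.assoc, pullback.diagonal_fst, Category.comp_id]
  · rw [Category.assoc, pullback.diagonal_snd, Category.comp_id, h12]

/-- Refined existence. -/
def RefExist : Prop :=
  ∀ (z : ↥Z) (R : ValuationSubring ↑(Z.residueField z)) (φ : Spec (CommRingCat.of ↥R) ⟶ X),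
    Spec.map (CommRingCat.ofHom R.subtype) ≫ φ = Z.fromSpecResidueField z ≫ h ≫ f →
    ∃ φ' : Spec (CommRingCat.of ↥R) ⟶ Y,
      Spec.map (CommRingCat.ofHom R.subtype) ≫ φ' = Z.fromSpecResidueField z ≫ h ∧ φ' ≫ f = φ

theorem fromSpecResidueField_comp_eq {y : Y} {x : X} (hs : f y ⤳ x) :
    Spec.map (X.presheaf.stalkSpecializes hs ≫ f.stalkMap y ≫ Y.residue y) ≫ X.fromSpecStalk x =
      Y.fromSpecResidueField y ≫ f := by
  rw [Spec.map_comp, Spec.map_comp, Category.assoc, Category.assoc, Scheme.SpecMap_stalkSpecializes_fromSpecStalk,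
    Scheme.SpecMap_stalkMap_fromSpecStalk, Scheme.fromSpecResidueField, Category.assoc]

set_option maxHeartbeats 1000000 in
/-- Lifts for valuation rings of residue fields of arbitrary points. -/
theorem exists_lift_residueField [QuasiCompact h] [IsSeparated f] (hd : DenseRange h.base) (he : RefExist h f)
    (y₁ : Y) (A₁ : ValuationSubring (Y.residueField y₁)) (φ₁ : Spec (CommRingCat.of A₁) ⟶ X)
    (hφ₁ : Spec.map (CommRingCat.ofHom A₁.subtype) ≫ φ₁ = Y.fromSpecResidueField y₁ ≫ f) :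
    ∃ l : Spec (CommRingCat.of A₁) ⟶ Y,
      Spec.map (CommRingCat.ofHom A₁.subtype) ≫ l = Y.fromSpecResidueField y₁ ∧ l ≫ f = φ₁ := by
  obtain ⟨z, hz⟩ := exists_specializes_of_mem_closure h y₁ (hd.closure_range.ge trivial)
  let x₀ := φ₁ (closedPoint A₁)
  obtain ⟨ψ, hψ⟩ := exists_stalk_factor φ₁ x₀ rfl
  have hs : f y₁ ⤳ x₀ := by
    have h1 : Spec.map (CommRingCat.ofHom A₁.subtype) (closedPoint (Y.residueField y₁)) ⤳ closedPoint A₁ :=
      specializes_closedPoint _
    have h2 := h1.map φ₁.continuous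
    rw [← Scheme.Hom.comp_apply, hφ₁, Scheme.Hom.comp_apply] at h2
    exact (specializes_of_eq (congrArg f (Scheme.fromSpecResidueField_apply y₁ _)).symm).trans h2
  have hψι : ψ ≫ CommRingCat.ofHom A₁.subtype = X.presheaf.stalkSpecializes hs ≫ f.stalkMap y₁ ≫ Y.residue y₁ := by
    refine Spec.map_injective ((cancel_mono (X.fromSpecStalk x₀)).1 ?_)
    rw [fromSpecResidueField_comp_eq f hs, Spec.map_comp, Category.assoc, hψ, hφ₁]
  -- the valuation ring of the field of `z` through `y₁`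
  let cz : Y.presheaf.stalk y₁ ⟶ Z.residueField z := Y.presheaf.stalkSpecializes hz ≫ h.stalkMap z ≫ Z.residue z
  obtain ⟨V, hV, hVl⟩ := exists_factor_valuationRing cz.hom
  let cV : Y.presheaf.stalk y₁ ⟶ CommRingCat.of V := CommRingCat.ofHom (cz.hom.codRestrict V.toSubring hV)
  let ε : Y.residueField y₁ →+* ResidueField V := ResidueField.map (cz.hom.codRestrict V.toSubring hV)
  have hε : ∀ a, ε (Y.residue y₁ a) = residue V (cV a) := fun a => ResidueField.map_residue _ _
  obtain ⟨A', hA'⟩ := exists_comap_eq ε A₁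
  let R := compose V A'
  have hR : ∀ a, ((cV ((X.presheaf.stalkSpecializes hs ≫ f.stalkMap y₁).hom a) : V) : Z.residueField z) ∈ R := by
    intro a
    refine (mem_compose_iff _).2 ?_
    rw [← hε]
    refine hA'.ge ?_
    have e := congr($hψι a)
    exact e ▸ (ψ a).2
  let ψR : X.presheaf.stalk x₀ ⟶ CommRingCat.of R :=
    CommRingCat.ofHom (((V.subtype.comp cV.hom).comp (X.presheaf.stalkSpecializes hs ≫ f.stalkMap y₁).hom).codRestrict
      R.toSubring hR)
  let φ : Spec (CommRingCat.of R) ⟶ X := Spec.map ψR ≫ X.fromSpecStalk x₀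
  have hψR : ψR ≫ CommRingCat.ofHom R.subtype = X.presheaf.stalkSpecializes hs ≫ f.stalkMap y₁ ≫ cz :=
    CommRingCat.hom_ext (RingHom.ext fun a => rfl)
  have hz' : Spec.map cz ≫ Y.fromSpecStalk y₁ = Z.fromSpecResidueField z ≫ h := fromSpecResidueField_comp_eq h hz
  have hφ : Spec.map (CommRingCat.ofHom R.subtype) ≫ φ = Z.fromSpecResidueField z ≫ h ≫ f := by
    rw [← Spec.map_comp_assoc, hψR, Spec.map_comp, Spec.map_comp, Category.assoc, Category.assoc,
      Scheme.SpecMap_stalkSpecializes_fromSpecStalk, Scheme.SpecMap_stalkMap_fromSpecStalk, reassoc_of% hz']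
  obtain ⟨φ', hφ'₁, hφ'₂⟩ := he z R φ hφ
  let j : CommRingCat.of R ⟶ CommRingCat.of V := CommRingCat.ofHom (R.inclusion V (compose_le V A'))
  have hjι : j ≫ CommRingCat.ofHom V.subtype = CommRingCat.ofHom R.subtype := rfl
  have hcV : cV ≫ CommRingCat.ofHom V.subtype = cz := rfl
  -- on `V` the lift is the given one
  have hVeq : Spec.map j ≫ φ' = Spec.map cV ≫ Y.fromSpecStalk y₁ := by
    refine refUniq_of_isSeparated h f z V (Spec.map j ≫ φ) ?_ _ _ ?_ ?_ ?_ ?_
    · rw [← Spec.map_comp_assoc, hjι, hφ]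
    · rw [← Spec.map_comp_assoc, hjι, hφ'₁]
    · rw [Category.assoc, hφ'₂]
    · rw [← Spec.map_comp_assoc, hcV, hz']
    · rw [Category.assoc, ← Scheme.SpecMap_stalkMap_fromSpecStalk]
      rw [← Scheme.SpecMap_stalkSpecializes_fromSpecStalk hs, ← Spec.map_comp_assoc, ← Spec.map_comp_assoc,
        ← Spec.map_comp_assoc]
      exact congrArg (fun k => Spec.map k ≫ X.fromSpecStalk x₀) (CommRingCat.hom_ext (RingHom.ext fun a => rfl))
  -- the valuation ring of the residue field
  let q : CommRingCat.of R ⟶ CommRingCat.of A' :=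
    CommRingCat.ofHom (((residue V).comp j.hom).codRestrict A'.toSubring fun x =>
      (mem_compose_iff (j.hom x)).1 x.2)
  let εc : Y.residueField y₁ ⟶ CommRingCat.of (ResidueField V) := CommRingCat.ofHom ε
  let ι' : CommRingCat.of A' ⟶ CommRingCat.of (ResidueField V) := CommRingCat.ofHom A'.subtype
  let rV : CommRingCat.of V ⟶ CommRingCat.of (ResidueField V) := CommRingCat.ofHom (residue V)
  have hq : q ≫ ι' = j ≫ rV := rfl
  let l₂ : Spec (CommRingCat.of A') ⟶ Y := Spec.map q ≫ φ'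
  have hl₂ : Spec.map ι' ≫ l₂ = Spec.map εc ≫ Y.fromSpecResidueField y₁ := by
    rw [← Spec.map_comp_assoc, hq, Spec.map_comp_assoc, hVeq, Scheme.fromSpecResidueField, ← Spec.map_comp_assoc,
      ← Spec.map_comp_assoc]
    exact congrArg (fun k => Spec.map k ≫ Y.fromSpecStalk y₁) (CommRingCat.hom_ext (RingHom.ext fun a => (hε a).symm))
  obtain ⟨σ, hσ⟩ := exists_stalk_factor l₂ _ rfl
  have hy₀ : y₁ ⤳ l₂ (closedPoint A') := by
    have h1 := (specializes_closedPoint (R := A') (Spec.map ι' (closedPoint (ResidueField V)))).map l₂.continuous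
    rwa [← Scheme.Hom.comp_apply, hl₂, Scheme.Hom.comp_apply, Scheme.fromSpecResidueField_apply] at h1
  have hσι : σ ≫ ι' = Y.presheaf.stalkSpecializes hy₀ ≫ Y.residue y₁ ≫ εc := by
    refine Spec.map_injective ((cancel_mono (Y.fromSpecStalk (l₂ (closedPoint A')))).1 ?_)
    rw [Spec.map_comp, Category.assoc, hσ, hl₂, Spec.map_comp, Spec.map_comp, Category.assoc, Category.assoc,
      Scheme.SpecMap_stalkSpecializes_fromSpecStalk, Scheme.fromSpecResidueField]
  have hσA : ∀ a, (Y.presheaf.stalkSpecializes hy₀ ≫ Y.residue y₁).hom a ∈ A₁ := fun a => by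
    refine hA'.le ?_
    have e : (σ a : ResidueField V) = ε ((Y.presheaf.stalkSpecializes hy₀ ≫ Y.residue y₁).hom a) := congr($hσι a)
    show ε ((Y.presheaf.stalkSpecializes hy₀ ≫ Y.residue y₁).hom a) ∈ A'
    exact e ▸ (σ a).2
  let σ₁ : Y.presheaf.stalk (l₂ (closedPoint A')) ⟶ CommRingCat.of A₁ :=
    CommRingCat.ofHom ((Y.presheaf.stalkSpecializes hy₀ ≫ Y.residue y₁).hom.codRestrict A₁.toSubring hσA)
  let l : Spec (CommRingCat.of A₁) ⟶ Y := Spec.map σ₁ ≫ Y.fromSpecStalk _
  let m : CommRingCat.of A₁ ⟶ CommRingCat.of A' := CommRingCat.ofHom (comapHom ε A' A₁ hA')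
  haveI : IsLocalHom m.hom := isLocalHom_comapHom ε A' A₁ hA'
  have hm : Function.Injective m.hom := fun a b hab => Subtype.ext (ε.injective (congrArg Subtype.val hab))
  have hml : Spec.map m ≫ l = l₂ := by
    rw [← hσ, ← Spec.map_comp_assoc]
    refine congrArg (fun k => Spec.map k ≫ Y.fromSpecStalk _) (CommRingCat.hom_ext (RingHom.ext fun a => Subtype.ext ?_))
    exact (congr($hσι a)).symm
  refine ⟨l, ?_, hom_ext_of_local m hm _ _ ?_⟩
  · rw [← Spec.map_comp_assoc, show σ₁ ≫ CommRingCat.ofHom A₁.subtype = Y.presheaf.stalkSpecializes hy₀ ≫ Y.residue y₁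
      from rfl, Spec.map_comp, Category.assoc, Scheme.SpecMap_stalkSpecializes_fromSpecStalk, Scheme.fromSpecResidueField]
  · rw [reassoc_of% hml, Category.assoc, hφ'₂, ← hψ, ← Spec.map_comp_assoc, ← Spec.map_comp_assoc]
    refine congrArg (fun k => Spec.map k ≫ X.fromSpecStalk x₀) (CommRingCat.hom_ext (RingHom.ext fun a => Subtype.ext ?_))
    show residue V (cV ((X.presheaf.stalkSpecializes hs ≫ f.stalkMap y₁).hom a)) = ε (ψ a).1
    rw [← hε]
    exact congrArg ε (congr($hψι a)).symm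

set_option maxHeartbeats 1000000 in
theorem existence_of_refExist [QuasiCompact h] [IsSeparated f] (hd : DenseRange h.base) (he : RefExist h f) :
    ValuativeCriterion.Existence f := by
  rintro ⟨R₀, K, i₁, i₂, ⟨w⟩⟩
  let y₁ := i₁ (closedPoint K)
  obtain ⟨e, he₁⟩ : ∃ e : Y.residueField y₁ ⟶ CommRingCat.of K, Spec.map e ≫ Y.fromSpecResidueField y₁ = i₁ :=
    ⟨_, Scheme.descResidueField_stalkClosedPointTo_fromSpecResidueField K Y i₁⟩
  let Avs : ValuationSubring K := ⟨(algebraMap R₀ K).range, ValuationRing.isInteger_or_isInteger R₀⟩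
  let A₁ := Avs.comap e.hom
  obtain ⟨σ₀, hσ₀⟩ := exists_stalk_factor i₂ _ rfl
  have hs : f y₁ ⤳ i₂ (closedPoint R₀) := by
    have h1 := (specializes_closedPoint (R := R₀)
      (Spec.map (CommRingCat.ofHom (algebraMap R₀ K)) (closedPoint K))).map i₂.continuous
    rwa [← Scheme.Hom.comp_apply, ← w, Scheme.Hom.comp_apply] at h1
  let c := X.presheaf.stalkSpecializes hs ≫ f.stalkMap y₁ ≫ Y.residue y₁
  have hce : σ₀ ≫ CommRingCat.ofHom (algebraMap R₀ K) = c ≫ e := by
    refine Spec.map_injective ((cancel_mono (X.fromSpecStalk _)).1 ?_)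
    rw [Spec.map_comp, Category.assoc, hσ₀, Spec.map_comp, Category.assoc, fromSpecResidueField_comp_eq f hs,
      reassoc_of% he₁, w]
  have hcA : ∀ a, c.hom a ∈ A₁ := fun a => ⟨σ₀ a, congr($hce a)⟩
  let ψ : X.presheaf.stalk (i₂ (closedPoint R₀)) ⟶ CommRingCat.of A₁ :=
    CommRingCat.ofHom (c.hom.codRestrict A₁.toSubring hcA)
  obtain ⟨l, hl₁, hl₂⟩ := exists_lift_residueField h f hd he y₁ A₁ (Spec.map ψ ≫ X.fromSpecStalk _) (by
    rw [← Spec.map_comp_assoc]
    exact fromSpecResidueField_comp_eq f hs)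
  have hinj := IsFractionRing.injective R₀ K
  let ρ : CommRingCat.of A₁ ⟶ CommRingCat.of R₀ := CommRingCat.ofHom
    (((RingEquiv.ofBijective (algebraMap R₀ K).rangeRestrict
      ⟨fun a b hab => hinj (congrArg Subtype.val hab), (algebraMap R₀ K).rangeRestrict_surjective⟩).symm.toRingHom).comp
        ((e.hom.comp A₁.subtype).codRestrict (algebraMap R₀ K).range fun a => a.2))
  have hρ : ρ ≫ CommRingCat.ofHom (algebraMap R₀ K) = CommRingCat.ofHom A₁.subtype ≫ e := by
    refine CommRingCat.hom_ext (RingHom.ext fun a => ?_)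
    exact congrArg Subtype.val ((RingEquiv.ofBijective (algebraMap R₀ K).rangeRestrict
      ⟨fun a b hab => hinj (congrArg Subtype.val hab), (algebraMap R₀ K).rangeRestrict_surjective⟩).apply_symm_apply
        ((e.hom.comp A₁.subtype).codRestrict (algebraMap R₀ K).range (fun a => a.2) a))
  refine ⟨⟨⟨Spec.map ρ ≫ l, ?_, ?_⟩⟩⟩
  · rw [← Spec.map_comp_assoc, hρ, Spec.map_comp_assoc, hl₁, he₁]
  · rw [Category.assoc, hl₂, ← Spec.map_comp_assoc]
    refine (congrArg (fun k => Spec.map k ≫ X.fromSpecStalk _) ?_).trans hσ₀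
    haveI : Mono (CommRingCat.ofHom (algebraMap R₀ K)) := ConcreteCategory.mono_of_injective _ hinj
    rw [← cancel_mono (CommRingCat.ofHom (algebraMap R₀ K)), Category.assoc, hρ, hce]
    rfl

end

end Groth.Agent.H4Val
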