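import Groth.Agent.Rat20Lib.DVRDom
import Groth.Agent.CompleteNagata.Global
import Groth.Agent.S0567
import Groth.Prelude.Def_EGA4b
import Mathlib

/-!
# Discrete valuation rings essentially of finite type with prescribed centre
-/

set_option autoImplicit false
set_option linter.style.haveILetI false

universe u

namespace Groth.Agent.H4Val

open IsLocalRing

theorem isUniversallyJapanese_of_isExcellent {A : Type u} [CommRing A] (h : EGA4.IsExcellent A) :
    CAlg.IsUniversallyJapanese A :=
  ((Groth.Agent.S0567.result A).1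
    (Groth.Agent.CompleteNagata.isNagata_of_isQuasiExcellent A ⟨h.1, h.2.2.1, h.2.2.2⟩)).2

theorem essFiniteType_of_equiv {D R V : Type u} [CommRing D] [CommRing R] [CommRing V] {iA : Algebra D R}
    (h : Algebra.EssFiniteType D R) (e : R ≃+* V) (φ : D →+* V) (hφ : ∀ d, φ d = e (algebraMap D R d)) :
    φ.EssFiniteType := by
  letI := φ.toAlgebra
  let e' : R ≃ₐ[D] V := AlgEquiv.ofRingEquiv (f := e) fun d => (hφ d).symm
  exact (Algebra.EssFiniteType.iff_of_algEquiv e').1 h

/-- A finite type model with a height one prime over a given centre. -/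
theorem exists_height_one_model {K : Type u} [Field K] {D : Type u} [CommRing D] [IsDomain D]
    [IsNoetherianRing D] [Algebra D K] [IsFractionRing D K] (p : Ideal D) [p.IsPrime] (hp0 : p ≠ ⊥) :
    ∃ (B : Subalgebra D K), Algebra.FiniteType D B ∧ IsFractionRing B K ∧
      ∃ P : Ideal B, P.IsPrime ∧ P ≠ ⊥ ∧ P.height ≤ 1 ∧ P.comap (algebraMap D B) = p := by
  classical
  obtain ⟨V₀, -, hV₀⟩ := Groth.Agent.Rat20Lib.exists_dvr_centre (K := K) p hp0
  obtain ⟨s, hs⟩ := IsNoetherian.noetherian p
  have hs0 : ∃ x ∈ s, x ≠ 0 := by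
    by_contra h
    simp only [not_exists, not_and, not_not] at h
    exact hp0 (by rw [← hs, Submodule.span_eq_bot]; exact fun x hx => h x hx)
  obtain ⟨x, hx, hmax⟩ := s.exists_max_image (fun y => V₀.valuation (algebraMap D K y))
    ⟨hs0.choose, hs0.choose_spec.1⟩
  have hx0 : algebraMap D K x ≠ 0 := by
    intro h
    obtain ⟨z, hz, hz0⟩ := hs0
    have := hmax z hz
    rw [h, map_zero, le_zero_iff, Valuation.zero_iff] at this
    exact hz0 ((injective_iff_map_eq_zero _).1 (IsFractionRing.injective D K) z this)
  let B : Subalgebra D K := Algebra.adjoin D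
    (↑(s.image fun y => algebraMap D K y / algebraMap D K x) : Set K)
  have hBft : Algebra.FiniteType D B :=
    (Subalgebra.fg_iff_finiteType B).1 (Subalgebra.fg_adjoin_finset _)
  have : IsNoetherianRing B := Algebra.FiniteType.isNoetherianRing D B
  have hBV : B ≤ ({ V₀.toSubring with algebraMap_mem' := fun a => (hV₀ a).1 } : Subalgebra D K) := by
    refine Algebra.adjoin_le ?_
    intro b hb
    simp only [Finset.coe_image, Set.mem_image] at hb
    obtain ⟨y, hy, rfl⟩ := hb
    show _ ∈ V₀
    rw [← ValuationSubring.valuation_le_one_iff, map_div₀]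
    exact div_le_one_of_le₀ (hmax y hy) zero_le
  let g : B →+* V₀ := B.val.toRingHom.codRestrict V₀.toSubring fun b => hBV b.2
  let cB : Ideal B := (maximalIdeal V₀).comap g
  have hcB : ∀ a : D, algebraMap D B a ∈ cB ↔ a ∈ p := fun a => by
    rw [← (hV₀ a).2]
    exact (ValuationSubring.coe_mem_nonunits_iff (a := g (algebraMap D B a))).symm
  have hxp : x ∈ p := hs ▸ Submodule.subset_span hx
  have hxc : Ideal.span {algebraMap D B x} ≤ cB := by
    rw [Ideal.span_singleton_le_iff_mem]
    exact (hcB x).2 hxp
  have hcBprime : cB.IsPrime := Ideal.IsPrime.comap g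
  obtain ⟨P, hP, hPc⟩ := Ideal.exists_minimalPrimes_le hxc
  have hxP : algebraMap D B x ∈ P := hP.1.2 (Ideal.mem_span_singleton_self _)
  refine ⟨B, hBft, Groth.Agent.Rat20Lib.isFractionRing_subalgebra B, P, hP.1.1, fun hb => hx0 ?_,
    Ideal.height_le_one_of_isPrincipal_of_mem_minimalPrimes _ P hP, le_antisymm (fun a ha => (hcB a).1 (hPc ha)) ?_⟩
  · rw [hb, Ideal.mem_bot] at hxP
    exact congrArg Subtype.val hxP
  · rw [← hs, Submodule.span_le]
    intro y hy
    have hyB : algebraMap D K y / algebraMap D K x ∈ B :=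
      Algebra.subset_adjoin (Finset.mem_coe.2 (Finset.mem_image_of_mem _ hy))
    have he : algebraMap D B y = ⟨_, hyB⟩ * algebraMap D B x :=
      Subtype.ext (div_mul_cancel₀ _ hx0).symm
    show algebraMap D B y ∈ P
    rw [he]
    exact P.mul_mem_left _ hxP

/-- Over a universally Japanese Noetherian ring, each non-zero prime of a finite type domain is the centre
of a discrete valuation ring essentially of finite type. -/
theorem exists_dvr_eft {A : Type u} [CommRing A] [IsNoetherianRing A] (hJ : CAlg.IsUniversallyJapanese A)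
    {D : Type u} [CommRing D] [IsDomain D] [Algebra A D] [Algebra.FiniteType A D]
    {K : Type u} [Field K] [Algebra D K] [IsFractionRing D K] (p : Ideal D) [p.IsPrime] (hp0 : p ≠ ⊥) :
    ∃ (V : ValuationSubring K) (hV : ∀ d, algebraMap D K d ∈ V), IsDiscreteValuationRing V ∧
      (((algebraMap D K).codRestrict V.toSubring hV).comp (algebraMap A D)).EssFiniteType ∧
      ((algebraMap D K).codRestrict V.toSubring hV).EssFiniteType ∧
      ∀ d, algebraMap D K d ∈ V.nonunits ↔ d ∈ p := by
  haveI : IsNoetherianRing D := Algebra.FiniteType.isNoetherianRing A D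
  obtain ⟨B, hBft, hBK, P, hP, hP0, hPh, hPp⟩ := exists_height_one_model (K := K) p hp0
  letI : Algebra A K := ((algebraMap D K).comp (algebraMap A D)).toAlgebra
  haveI : IsScalarTower A D K := IsScalarTower.of_algebraMap_eq' rfl
  haveI : Algebra.FiniteType A B := Algebra.FiniteType.trans (S := D) inferInstance hBft
  haveI := hBK
  have hfin : Module.Finite B (integralClosure B K) := by
    let e : FractionRing B ≃ₐ[B] K := FractionRing.algEquiv B K
    letI : Algebra (FractionRing B) K := e.toRingEquiv.toRingHom.toAlgebra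
    haveI : IsScalarTower B (FractionRing B) K := IsScalarTower.of_algebraMap_eq fun b => (e.commutes b).symm
    exact hJ B inferInstance K (Module.Finite.of_surjective (Algebra.linearMap (FractionRing B) K) e.surjective)
  let C := integralClosure B K
  haveI : IsNoetherianRing B := Algebra.FiniteType.isNoetherianRing D B
  haveI : IsNoetherianRing C := Algebra.FiniteType.isNoetherianRing B C
  haveI : IsIntegrallyClosed C := integralClosure.isIntegrallyClosedOfFiniteExtension K
  haveI : IsFractionRing C K := integralClosure.isFractionRing_of_finite_extension K K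
  have hinjC : RingHom.ker (algebraMap B C) ≤ P := fun b hb => by
    have : algebraMap B K b = 0 := congrArg Subtype.val hb
    rw [(map_eq_zero_iff _ (IsFractionRing.injective B K)).1 this]
    exact P.zero_mem
  obtain ⟨Q, hQ, hQP⟩ := Ideal.exists_ideal_over_prime_of_isIntegral_of_isDomain (S := C) P hinjC
  haveI := hQ
  have hQ0 : Q ≠ ⊥ := fun hb => hP0 (by
    rw [← hQP, hb, ← RingHom.ker_eq_comap_bot, eq_bot_iff]
    intro b hb'
    have : algebraMap B K b = 0 := congrArg Subtype.val hb'
    exact (map_eq_zero_iff _ (IsFractionRing.injective B K)).1 this)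
  have hQh : Q.height ≤ 1 := by
    refine (Ideal.height_le_iff (n := 1)).2 fun Q' hQ' hlt => ?_
    haveI := hQ'
    rw [show ((1 : ℕ) : ℕ∞) = 1 from rfl, ENat.lt_one_iff_eq_zero, Ideal.height_eq_zero_iff_eq_bot]
    by_contra hne
    have h1 : Q'.comap (algebraMap B C) ≠ ⊥ := Ideal.IsIntegral.comap_ne_bot B hne
    have h2 : Q'.comap (algebraMap B C) < P := hQP ▸ Ideal.IsIntegral.comap_lt_comap hlt
    haveI : (Q'.comap (algebraMap B C)).IsPrime := Ideal.IsPrime.comap _
    have h3 := (Ideal.height_le_iff (n := 1)).1 hPh _ inferInstance h2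
    rw [show ((1 : ℕ) : ℕ∞) = 1 from rfl, ENat.lt_one_iff_eq_zero, Ideal.height_eq_zero_iff_eq_bot] at h3
    exact h1 h3
  have hSle : Q.primeCompl ≤ nonZeroDivisors C := fun z hz =>
    mem_nonZeroDivisors_of_ne_zero fun h => hz (h ▸ Q.zero_mem)
  let R : Subalgebra C K := Localization.subalgebra.ofField K Q.primeCompl hSle
  haveI : IsLocalization.AtPrime R Q := Localization.subalgebra.isLocalization_ofField K Q.primeCompl hSle
  haveI : IsNoetherianRing R := IsLocalization.isNoetherianRing Q.primeCompl R inferInstance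
  haveI : IsLocalRing R := IsLocalization.AtPrime.isLocalRing R Q
  haveI : IsIntegrallyClosed R := isIntegrallyClosed_of_isLocalization R Q.primeCompl hSle
  haveI : Ring.KrullDimLE 1 R := by
    rw [Ring.krullDimLE_iff, IsLocalization.AtPrime.ringKrullDim_eq_height Q R]
    exact WithBot.coe_le_coe.2 hQh
  haveI : IsFractionRing R K := Localization.subalgebra.isFractionRing_ofField K Q.primeCompl hSle
  have hnf : ¬ IsField R := by
    intro hf
    obtain ⟨q, hq, hq0⟩ := Submodule.exists_mem_ne_zero_of_ne_bot hQ0
    obtain ⟨r, hr⟩ := hf.mul_inv_cancel (a := algebraMap C R q) fun h0 => hq0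
      (IsFractionRing.injective C K (by rw [map_zero]; exact congrArg Subtype.val h0))
    exact IsLocalRing.notMem_maximalIdeal.2 (IsUnit.of_mul_eq_one r hr)
      ((IsLocalization.AtPrime.to_map_mem_maximal_iff R Q q).2 hq)
  haveI : IsDedekindDomain R := { maximalOfPrime := fun _ _ => Ideal.IsPrime.isMaximal_of_ne_bot ‹_› ‹_› }
  haveI : IsDiscreteValuationRing R :=
    ((IsDiscreteValuationRing.TFAE R hnf).out 0 2 rfl rfl).2 inferInstance
  let V : ValuationSubring K :=
    { R.toSubring with
      mem_or_inv_mem' := fun z => by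
        rcases ValuationRing.isInteger_or_isInteger R z with ⟨w, hw⟩ | ⟨w, hw⟩
        · exact Or.inl (hw ▸ w.2)
        · exact Or.inr (hw ▸ w.2) }
  have hV : ∀ d, algebraMap D K d ∈ V := fun d => (algebraMap C R (algebraMap B C (algebraMap D B d))).2
  let σ : R ≃+* V := RingEquiv.refl R
  haveI : IsDiscreteValuationRing V := IsDiscreteValuationRing.RingEquivClass.isDiscreteValuationRing σ
  have hDR : Algebra.EssFiniteType D R := by
    haveI : Algebra.FiniteType D C := Algebra.FiniteType.trans (S := B) hBft inferInstance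
    haveI : Algebra.EssFiniteType C R := Algebra.EssFiniteType.of_isLocalization R Q.primeCompl
    exact Algebra.EssFiniteType.comp D C R
  have hDV : ((algebraMap D K).codRestrict V.toSubring hV).EssFiniteType :=
    essFiniteType_of_equiv hDR σ _ fun d => Subtype.ext rfl
  refine ⟨V, hV, inferInstance, ?_, hDV, fun d => ?_⟩
  · letI := ((algebraMap D K).codRestrict V.toSubring hV).toAlgebra
    letI := (((algebraMap D K).codRestrict V.toSubring hV).comp (algebraMap A D)).toAlgebra
    haveI : IsScalarTower A D V := IsScalarTower.of_algebraMap_eq' rfl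
    haveI : Algebra.EssFiniteType D V := hDV
    exact Algebra.EssFiniteType.comp A D V
  · rw [show algebraMap D K d = ((σ (algebraMap C R (algebraMap B C (algebraMap D B d))) : V) : K) from rfl,
      ValuationSubring.coe_mem_nonunits_iff, ← hPp, Ideal.mem_comap, ← hQP, Ideal.mem_comap,
      ← IsLocalization.AtPrime.to_map_mem_maximal_iff R Q]
    exact Iff.rfl

end Groth.Agent.H4Val
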