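import Groth.Agent.H4Val.Refined
import Groth.Agent.H4Val.EFTDvr
import Groth.Agent.MorLib.MonoSpec
import Mathlib

/-!
# Valuative criteria with discrete valuation rings essentially of finite type
-/

set_option autoImplicit false
set_option linter.style.haveILetI false
set_option backward.isDefEq.respectTransparency false
set_option backward.isDefEq.respectTransparency.types false

universe u

open CategoryTheory Limits AlgebraicGeometry IsLocalRing TopologicalSpace

namespace Groth.Agent.H4Val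

variable {X Y S : Scheme.{u}}

/-- A morphism from a local spectrum whose closed point lands in an affine open. -/
theorem exists_affine_factor {R : Type u} [CommRing R] [IsLocalRing R] (l : Spec (CommRingCat.of R) ⟶ X)
    {U : X.Opens} (hU : IsAffineOpen U) (h : l (closedPoint R) ∈ U) :
    ∃ χ : Γ(X, U) ⟶ CommRingCat.of R, Spec.map χ ≫ hU.fromSpec = l := by
  have hr : Set.range l ⊆ Set.range hU.fromSpec := by
    rw [hU.range_fromSpec]
    rintro _ ⟨q, rfl⟩
    exact ((specializes_closedPoint q).map l.continuous).mem_open U.2 h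
  exact ⟨Spec.preimage (IsOpenImmersion.lift hU.fromSpec l hr),
    by rw [Spec.map_preimage]; exact IsOpenImmersion.lift_fac _ _ _⟩

/-- A map classifying the inclusion of a point is the evaluation, whose image generates the residue field. -/
theorem exists_div_of_evaluation {U : X.Opens} (hU : IsAffineOpen U) {x : X} (hx : x ∈ U)
    (γ : Γ(X, U) ⟶ X.residueField x) (hγ : Spec.map γ ≫ hU.fromSpec = X.fromSpecResidueField x)
    (z : X.residueField x) : ∃ a b : Γ(X, U), γ a / γ b = z := by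
  have e : γ = X.presheaf.germ U x hx ≫ X.residue x := by
    refine Spec.map_injective ((cancel_mono hU.fromSpec).1 ?_)
    rw [hγ, Spec.map_comp, Category.assoc, Scheme.fromSpecResidueField, ← hU.fromSpecStalk_eq_fromSpecStalk hx]
    rfl
  obtain ⟨s, rfl⟩ := IsLocalRing.residue_surjective z
  letI := TopCat.Presheaf.algebra_section_stalk X.presheaf ⟨x, hx⟩
  haveI := hU.isLocalization_stalk ⟨x, hx⟩
  obtain ⟨⟨a, b⟩, hab⟩ := IsLocalization.surj (hU.primeIdealOf ⟨x, hx⟩).asIdeal.primeCompl s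
  refine ⟨a, b, ?_⟩
  have hb : (X.residue x) (X.presheaf.germ U x hx (b : Γ(X, U))) ≠ 0 := fun h0 =>
    (mem_maximalIdeal _).1 ((IsLocalRing.residue_eq_zero_iff _).1 h0)
      (IsLocalization.map_units (M := (hU.primeIdealOf ⟨x, hx⟩).asIdeal.primeCompl) (X.presheaf.stalk x) b)
  rw [e]
  refine (div_eq_iff hb).2 ?_
  show X.residue x (X.presheaf.germ U x hx a) = X.residue x s * _
  rw [← map_mul]
  exact congrArg _ hab.symm

/-- A specialisation is realised by a discrete valuation ring essentially of finite type over an excellent base. -/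
theorem exists_eft_dvr_path (hS : ∀ U : S.affineOpens, EGA4.IsExcellent Γ(S, U.1)) (π : X ⟶ S)
    [LocallyOfFiniteType π] {x₁ p : X} (hs : x₁ ⤳ p) (hne : x₁ ≠ p) :
    ∃ (K : Type u) (_ : Field K) (R : ValuationSubring K) (i : Spec (CommRingCat.of R) ⟶ X),
      IsDiscreteValuationRing R ∧ i (closedPoint R) = p ∧
      (Spec.map (CommRingCat.ofHom R.subtype) ≫ i) (closedPoint K) = x₁ ∧
      ∃ (U : S.affineOpens) (φ : Γ(S, U.1) ⟶ CommRingCat.of R),
        Spec.map φ ≫ U.2.fromSpec = i ≫ π ∧ φ.hom.EssFiniteType := by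
  obtain ⟨U, hU, hpU, -⟩ := exists_isAffineOpen_mem_and_subset (x := π p) (U := (⊤ : S.Opens)) trivial
  obtain ⟨V, hV, hpV, hVU⟩ := exists_isAffineOpen_mem_and_subset (x := p) (U := π ⁻¹ᵁ U) hpU
  have hxV : x₁ ∈ V := hs.mem_open V.2 hpV
  haveI : IsNoetherianRing Γ(S, U) := (hS ⟨U, hU⟩).1
  algebraize [(π.appLE U V hVU).hom]
  haveI : Algebra.FiniteType Γ(S, U) Γ(X, V) := π.finiteType_appLE hU hV hVU
  let q₁ := hV.primeIdealOf ⟨x₁, hxV⟩
  let q₀ := hV.primeIdealOf ⟨p, hpV⟩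
  have hle : q₁.asIdeal ≤ q₀.asIdeal := by
    refine (PrimeSpectrum.le_iff_specializes q₁ q₀).2 ?_
    refine hV.fromSpec.isOpenEmbedding.isInducing.specializes_iff.1 ?_
    rw [hV.fromSpec_primeIdealOf, hV.fromSpec_primeIdealOf]
    exact hs
  let D := Γ(X, V) ⧸ q₁.asIdeal
  let K := FractionRing D
  let pb : Ideal D := q₀.asIdeal.map (Ideal.Quotient.mk q₁.asIdeal)
  haveI : pb.IsPrime := Ideal.map_isPrime_of_surjective Ideal.Quotient.mk_surjective (by rwa [Ideal.mk_ker])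
  have hcomap : ∀ b, Ideal.Quotient.mk q₁.asIdeal b ∈ pb ↔ b ∈ q₀.asIdeal := fun b => by
    rw [Ideal.mem_quotient_iff_mem hle]
  have hp0 : pb ≠ ⊥ := by
    intro h0
    refine hne ?_
    have : q₁ = q₀ := PrimeSpectrum.ext (le_antisymm hle fun b hb => Ideal.Quotient.eq_zero_iff_mem.1 (by
      have := (hcomap b).2 hb
      rwa [h0, Ideal.mem_bot] at this))
    have h2 := congrArg hV.fromSpec this
    rwa [hV.fromSpec_primeIdealOf, hV.fromSpec_primeIdealOf] at h2
  obtain ⟨R, hR, hdvr, heft, -, hcent⟩ :=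
    exists_dvr_eft (A := Γ(S, U)) (isUniversallyJapanese_of_isExcellent (hS ⟨U, hU⟩)) (K := K) pb hp0
  let χ : Γ(X, V) ⟶ CommRingCat.of R :=
    CommRingCat.ofHom (((algebraMap D K).codRestrict R.toSubring hR).comp (Ideal.Quotient.mk q₁.asIdeal))
  refine ⟨K, inferInstance, R, Spec.map χ ≫ hV.fromSpec, hdvr, ?_, ?_, ⟨U, hU⟩, π.appLE U V hVU ≫ χ, ?_, heft⟩
  · rw [Scheme.Hom.comp_apply]
    refine Eq.trans (congrArg hV.fromSpec ?_) (hV.fromSpec_primeIdealOf ⟨p, hpV⟩)
    refine PrimeSpectrum.ext (Ideal.ext fun b => ?_)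
    show χ.hom b ∈ maximalIdeal R ↔ b ∈ q₀.asIdeal
    rw [← hcomap, ← hcent, ← ValuationSubring.coe_mem_nonunits_iff]
    rfl
  · rw [← Spec.map_comp_assoc, Scheme.Hom.comp_apply]
    refine Eq.trans (congrArg hV.fromSpec ?_) (hV.fromSpec_primeIdealOf ⟨x₁, hxV⟩)
    refine PrimeSpectrum.ext (Ideal.ext fun b => ?_)
    show algebraMap D K (Ideal.Quotient.mk q₁.asIdeal b) ∈ maximalIdeal K ↔ b ∈ q₁.asIdeal
    rw [maximalIdeal_eq_bot, Ideal.mem_bot, map_eq_zero_iff _ (IsFractionRing.injective D K),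
      Ideal.Quotient.eq_zero_iff_mem]
  · rw [Spec.map_comp, Category.assoc, IsAffineOpen.SpecMap_appLE_fromSpec π hU hV hVU, Category.assoc]

set_option maxHeartbeats 1000000 in
theorem isSeparated_of_eft_uniq (hS : ∀ U : S.affineOpens, EGA4.IsExcellent Γ(S, U.1)) (f : X ⟶ Y) (g : Y ⟶ S)
    [LocallyOfFiniteType f] [LocallyOfFiniteType g]
    (H : ∀ sq : ValuativeCommSq f, IsDiscreteValuationRing sq.R →
      (∃ (U : S.affineOpens) (φ : Γ(S, U.1) ⟶ CommRingCat.of sq.R),
        Spec.map φ ≫ U.2.fromSpec = sq.i₂ ≫ g ∧ φ.hom.EssFiniteType) →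
      Subsingleton sq.commSq.LiftStruct) : IsSeparated f := by
  haveI : IsLocallyNoetherian S := ⟨fun U => (hS U).1⟩
  haveI : IsLocallyNoetherian Y := LocallyOfFiniteType.isLocallyNoetherian g
  haveI : IsLocallyNoetherian X := LocallyOfFiniteType.isLocallyNoetherian f
  haveI : QuasiCompact (pullback.diagonal f) := inferInstance
  refine ⟨.of_isPreimmersion _ (isClosed_of_closure_subset fun p hp => ?_)⟩
  obtain ⟨y₁, hy₁⟩ := exists_specializes_of_mem_closure (pullback.diagonal f) p hp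
  by_cases hne : pullback.diagonal f y₁ = p
  · exact ⟨y₁, hne⟩
  obtain ⟨K, _, R, i, hR, hi₀, hi₁, U, φ, hφ, heft⟩ :=
    exists_eft_dvr_path hS (pullback.fst f f ≫ f ≫ g) hy₁ hne
  obtain ⟨l, hl⟩ := Groth.Agent.MorLib.MonoSpec.exists_lift_residue (pullback.diagonal f)
    (Spec.map (CommRingCat.ofHom R.subtype) ≫ i) y₁ hi₁
  have hl₁ : l = Spec.map (CommRingCat.ofHom R.subtype) ≫ i ≫ pullback.fst f f := by
    rw [← Category.assoc, ← hl, Category.assoc, pullback.diagonal_fst, Category.comp_id]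
  have hl₂ : l = Spec.map (CommRingCat.ofHom R.subtype) ≫ i ≫ pullback.snd f f := by
    rw [← Category.assoc, ← hl, Category.assoc, pullback.diagonal_snd, Category.comp_id]
  let sq : ValuativeCommSq f :=
    { R := R, K := K, i₁ := l, i₂ := i ≫ pullback.fst f f ≫ f,
      commSq := ⟨by
        show l ≫ f = Spec.map (CommRingCat.ofHom R.subtype) ≫ _
        rw [hl₁]
        simp only [Category.assoc]⟩ }
  haveI := H sq hR ⟨U, φ, by
    show _ = (i ≫ pullback.fst f f ≫ f) ≫ g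
    simpa only [Category.assoc] using hφ, heft⟩
  have h12 := congrArg CommSq.LiftStruct.l (Subsingleton.elim (α := sq.commSq.LiftStruct)
    ⟨i ≫ pullback.fst f f, hl₁.symm, Category.assoc _ _ _⟩
    ⟨i ≫ pullback.snd f f, hl₂.symm, by
      show (i ≫ pullback.snd f f) ≫ f = i ≫ pullback.fst f f ≫ f
      rw [Category.assoc, pullback.condition]⟩)
  refine ⟨(i ≫ pullback.fst f f) (closedPoint R), ?_⟩
  rw [← hi₀, ← Scheme.Hom.comp_apply]
  refine congrArg (fun k : Spec (CommRingCat.of R) ⟶ pullback f f => k (closedPoint R)) ?_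
  apply pullback.hom_ext
  · rw [Category.assoc, pullback.diagonal_fst, Category.comp_id]
  · rw [Category.assoc, pullback.diagonal_snd, Category.comp_id]
    exact h12

set_option maxHeartbeats 2000000 in
theorem hasLift_of_eft_exist (hS : ∀ U : S.affineOpens, EGA4.IsExcellent Γ(S, U.1)) (f : X ⟶ Y) (g : Y ⟶ S)
    [QuasiCompact f] [LocallyOfFiniteType f] [LocallyOfFiniteType g]
    (H : ∀ sq : ValuativeCommSq f, IsDiscreteValuationRing sq.R →
      (∃ (U : S.affineOpens) (φ : Γ(S, U.1) ⟶ CommRingCat.of sq.R),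
        Spec.map φ ≫ U.2.fromSpec = sq.i₂ ≫ g ∧ φ.hom.EssFiniteType) →
      sq.commSq.HasLift) (sq : ValuativeCommSq f) : sq.commSq.HasLift := by
  classical
  obtain ⟨R₀, K, i₁, i₂, ⟨w⟩⟩ := sq
  obtain ⟨e, he₁⟩ : ∃ e : X.residueField (i₁ (closedPoint K)) ⟶ CommRingCat.of K,
      Spec.map e ≫ X.fromSpecResidueField (i₁ (closedPoint K)) = i₁ :=
    ⟨_, Scheme.descResidueField_stalkClosedPointTo_fromSpecResidueField K X i₁⟩
  generalize hy₁ : i₁ (closedPoint K) = y₁ at e he₁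
  let Avs : ValuationSubring K := ⟨(algebraMap R₀ K).range, ValuationRing.isInteger_or_isInteger R₀⟩
  let A₁ := Avs.comap e.hom
  obtain ⟨U, hU, hxU, -⟩ := exists_isAffineOpen_mem_and_subset (x := g (i₂ (closedPoint R₀))) (U := (⊤ : S.Opens)) trivial
  obtain ⟨W, hW, hxW, hWU⟩ := exists_isAffineOpen_mem_and_subset (x := i₂ (closedPoint R₀)) (U := g ⁻¹ᵁ U) hxU
  obtain ⟨χW, hχW⟩ := exists_affine_factor i₂ hW hxW
  have hyW : f y₁ ∈ W := by
    have h1 := (specializes_closedPoint (R := R₀)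
      (Spec.map (CommRingCat.ofHom (algebraMap R₀ K)) (closedPoint K))).map i₂.continuous
    rw [← Scheme.Hom.comp_apply, ← w, Scheme.Hom.comp_apply, hy₁] at h1
    exact h1.mem_open W.2 hxW
  obtain ⟨β, hβ⟩ := exists_affine_factor (R := X.residueField y₁) (X.fromSpecResidueField y₁ ≫ f) hW (by
    rw [Scheme.Hom.comp_apply]
    exact (congrArg f (Scheme.fromSpecResidueField_apply y₁ _)).symm ▸ hyW)
  have hβe : β ≫ e = χW ≫ CommRingCat.ofHom (algebraMap R₀ K) := by
    refine Spec.map_injective ((cancel_mono hW.fromSpec).1 ?_)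
    rw [Spec.map_comp, Category.assoc, hβ, Spec.map_comp, Category.assoc, hχW, reassoc_of% he₁]
    exact w
  have hβA : ∀ b, β.hom b ∈ A₁ := fun b => ⟨χW b, congr($hβe.symm b)⟩
  let κ := X.residueField y₁
  let α : Γ(S, U) →+* κ := β.hom.comp (g.appLE U W hWU).hom
  haveI : IsNoetherianRing Γ(S, U) := (hS ⟨U, hU⟩).1
  -- affine pieces upstairs
  obtain ⟨t, ht, hcov⟩ := (isCompact_iff_finite_and_eq_biUnion_affineOpens (U := f ⁻¹ᵁ W)).mp
    (f.isCompact_preimage hW.isCompact)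
  have hle : ∀ V ∈ t, V.1 ≤ f ⁻¹ᵁ W := fun V hV => by rw [hcov]; exact le_iSup₂_of_le V hV le_rfl
  have hcov' : ∀ x, f x ∈ W → ∃ V ∈ t, x ∈ V.1 := fun x hx => by
    have : x ∈ f ⁻¹ᵁ W := hx
    rw [hcov] at this
    simpa using this
  have key : ∀ V ∈ t, y₁ ∈ V.1 → ∃ (γ : Γ(X, V.1) ⟶ κ) (s : Finset Γ(X, V.1)),
      (∀ z : κ, ∃ a b, γ a / γ b = z) ∧ Spec.map γ ≫ V.2.fromSpec = X.fromSpecResidueField y₁ ∧
      ∀ (F : Subring κ), (∀ a, α a ∈ F) → (∀ b ∈ s, γ b ∈ F) → ∀ b, γ b ∈ F := by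
    intro V hV hyV
    obtain ⟨γ, hγ⟩ := exists_affine_factor (R := κ) (X.fromSpecResidueField y₁) V.2 (by
      exact (Scheme.fromSpecResidueField_apply y₁ _).symm ▸ hyV)
    refine ⟨γ, ?_⟩
    let a := g.appLE U W hWU ≫ f.appLE W V.1 (hle V hV)
    algebraize [a.hom]
    have hft : Algebra.FiniteType Γ(S, U) Γ(X, V.1) := by
      have := (f ≫ g).finiteType_appLE hU V.2 ((hle V hV).trans (f.preimage_mono hWU))
      show a.hom.FiniteType
      rwa [show a = (f ≫ g).appLE U V.1 _ from Scheme.Hom.appLE_comp_appLE _ _ _ _ _ _ _]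
    obtain ⟨s, hs⟩ := hft.out
    refine ⟨s, exists_div_of_evaluation V.2 hyV γ hγ, hγ, fun F hA hsF b => ?_⟩
    have hαγ : f.appLE W V.1 (hle V hV) ≫ γ = β := by
      refine Spec.map_injective ((cancel_mono hW.fromSpec).1 ?_)
      rw [Spec.map_comp, Category.assoc, IsAffineOpen.SpecMap_appLE_fromSpec f hW V.2, hβ, reassoc_of% hγ]
    have hb : b ∈ Algebra.adjoin Γ(S, U) (s : Set Γ(X, V.1)) := hs ▸ Algebra.mem_top
    induction hb using Algebra.adjoin_induction with
    | mem x hx => exact hsF x hx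
    | algebraMap r =>
      have : γ.hom (a.hom r) = α r := congr($hαγ ((g.appLE U W hWU) r))
      exact this ▸ hA r
    | add x y _ _ hx hy => rw [map_add]; exact F.add_mem hx hy
    | mul x y _ _ hx hy => rw [map_mul]; exact F.mul_mem hx hy
  choose γ s hdiv hγ hgen using key
  by_cases hgood : ∃ V, ∃ (hV : V ∈ t) (hyV : y₁ ∈ V.1), ∀ b ∈ s V hV hyV, γ V hV hyV b ∈ A₁
  · -- all generators are integral
    obtain ⟨V, hV, hyV, hb⟩ := hgood
    have hγA : ∀ b, γ V hV hyV b ∈ A₁ := hgen V hV hyV A₁.toSubring (fun a => hβA _) hb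
    have hinj := IsFractionRing.injective R₀ K
    choose ρ hρ using fun b => hγA b
    let ρ' : Γ(X, V.1) ⟶ CommRingCat.of R₀ := CommRingCat.ofHom
      { toFun := ρ
        map_one' := hinj (by rw [hρ, map_one, map_one, map_one])
        map_mul' := fun a b => hinj (by rw [hρ, map_mul, map_mul, map_mul, hρ, hρ])
        map_zero' := hinj (by rw [hρ, map_zero, map_zero, map_zero])
        map_add' := fun a b => hinj (by rw [hρ, map_add, map_add, map_add, hρ, hρ]) }
    have hρ' : ρ' ≫ CommRingCat.ofHom (algebraMap R₀ K) = γ V hV hyV ≫ e := by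
      ext b; exact hρ b
    haveI : Mono (CommRingCat.ofHom (algebraMap R₀ K)) := ConcreteCategory.mono_of_injective _ hinj
    refine ⟨⟨⟨Spec.map ρ' ≫ V.2.fromSpec, ?_, ?_⟩⟩⟩
    · rw [← Spec.map_comp_assoc, hρ', Spec.map_comp_assoc, hγ, he₁]
    · rw [Category.assoc, ← IsAffineOpen.SpecMap_appLE_fromSpec f hW V.2 (hle V hV), ← Spec.map_comp_assoc]
      refine Eq.trans ?_ hχW
      congr 2
      rw [← cancel_mono (CommRingCat.ofHom (algebraMap R₀ K)), Category.assoc, hρ', ← hβe, ← Category.assoc]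
      congr 1
      refine Spec.map_injective ((cancel_mono hW.fromSpec).1 ?_)
      rw [Spec.map_comp, Category.assoc, IsAffineOpen.SpecMap_appLE_fromSpec f hW V.2, hβ, reassoc_of% hγ]
  · -- an essentially finite type ring contradicts this
    exfalso
    push Not at hgood
    choose b hbs hbA using hgood
    letI : Algebra Γ(S, U) κ := α.toAlgebra
    obtain ⟨sW, hsW⟩ : ∃ sW : Finset Γ(Y, W),
        letI := (g.appLE U W hWU).hom.toAlgebra
        Algebra.adjoin Γ(S, U) (sW : Set Γ(Y, W)) = ⊤ :=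
      (g.finiteType_appLE hU hW hWU).out
    let c : κ → κ := fun z => if z ∈ A₁ then z else z⁻¹
    have hcA : ∀ z, c z ∈ A₁ := fun z => by
      show (if z ∈ A₁ then z else z⁻¹) ∈ A₁
      split
      · assumption
      · exact (A₁.mem_or_inv_mem z).resolve_left ‹_›
    let G : Set κ := (β.hom '' (sW : Set Γ(Y, W))) ∪
      ⋃ V : t, {z | ∃ (hyV : y₁ ∈ V.1.1), z ∈ c '' (γ V.1 V.2 hyV '' (s V.1 V.2 hyV : Set Γ(X, V.1.1)))}
    have hG : G.Finite := by
      haveI := ht.to_subtype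
      refine (sW.finite_toSet.image _).union (Set.finite_iUnion fun V => ?_)
      by_cases hyV : y₁ ∈ V.1.1
      · refine (((s V.1 V.2 hyV).finite_toSet.image (γ V.1 V.2 hyV)).image c).subset ?_
        rintro z ⟨_, hz⟩
        exact hz
      · exact Set.finite_empty.subset fun z ⟨h, _⟩ => absurd h hyV
    let D : Subalgebra Γ(S, U) κ := Algebra.adjoin Γ(S, U) G
    haveI : Algebra.FiniteType Γ(S, U) D :=
      (Subalgebra.fg_iff_finiteType D).1 (Subalgebra.fg_def.2 ⟨G, hG, rfl⟩)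
    have hDA : ∀ z ∈ D, z ∈ A₁ := by
      intro z hz
      induction hz using Algebra.adjoin_induction with
      | mem x hx =>
        rcases hx with ⟨b, -, rfl⟩ | hx
        · exact hβA b
        · obtain ⟨V, _, z', -, rfl⟩ := Set.mem_iUnion.1 hx
          exact hcA _
      | algebraMap r => exact hβA _
      | add x y _ _ hx hy => exact A₁.add_mem _ _ hx hy
      | mul x y _ _ hx hy => exact A₁.mul_mem _ _ hx hy
    have hcD : ∀ V (hV : V ∈ t) (hyV : y₁ ∈ V.1), ∀ b ∈ s V hV hyV, c (γ V hV hyV b) ∈ D :=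
      fun V hV hyV b hb => Algebra.subset_adjoin
        (Or.inr (Set.mem_iUnion.2 ⟨⟨V, hV⟩, hyV, _, ⟨b, hb, rfl⟩, rfl⟩))
    have hβD : ∀ z, β.hom z ∈ D := by
      intro z
      letI := (g.appLE U W hWU).hom.toAlgebra
      have hz : z ∈ Algebra.adjoin Γ(S, U) (sW : Set Γ(Y, W)) := hsW ▸ Algebra.mem_top
      induction hz using Algebra.adjoin_induction with
      | mem x hx => exact Algebra.subset_adjoin (Or.inl ⟨x, hx, rfl⟩)
      | algebraMap r => exact D.algebraMap_mem r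
      | add x y _ _ hx hy => rw [map_add]; exact D.add_mem hx hy
      | mul x y _ _ hx hy => rw [map_mul]; exact D.mul_mem hx hy
    obtain ⟨V₀, hV₀, hyV₀⟩ := hcov' y₁ hyW
    haveI : IsFractionRing D κ := by
      let F : Subfield κ := Subfield.closure (D : Set κ)
      have hgenF : ∀ b, γ V₀ hV₀ hyV₀ b ∈ F := hgen V₀ hV₀ hyV₀ F.toSubring
        (fun a => Subfield.subset_closure (D.algebraMap_mem a)) fun b hb => by
          have h1 : c (γ V₀ hV₀ hyV₀ b) ∈ F := Subfield.subset_closure (hcD V₀ hV₀ hyV₀ b hb)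
          by_cases hm : γ V₀ hV₀ hyV₀ b ∈ A₁
          · simpa [c, hm] using h1
          · rw [show c (γ V₀ hV₀ hyV₀ b) = (γ V₀ hV₀ hyV₀ b)⁻¹ from if_neg hm] at h1
            exact inv_inv (γ V₀ hV₀ hyV₀ b) ▸ F.inv_mem h1
      refine IsFractionRing.of_field D κ fun z => ?_
      obtain ⟨a, b, rfl⟩ := hdiv V₀ hV₀ hyV₀ z
      obtain ⟨x, hx, y, hy, hxy⟩ := Subfield.mem_closure_iff.1 (F.div_mem (hgenF a) (hgenF b))
      have hD : Subring.closure (D : Set κ) = D.toSubring := Subring.closure_eq D.toSubring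
      rw [hD] at hx hy
      exact ⟨⟨x, hx⟩, ⟨y, hy⟩, hxy.symm⟩
    let ψ : D →+* A₁ := D.val.toRingHom.codRestrict A₁.toSubring fun z => hDA z z.2
    let p : Ideal D := (maximalIdeal A₁).comap ψ
    haveI : p.IsPrime := Ideal.IsPrime.comap _
    have hmem : ∀ V (hV : V ∈ t) (hyV : y₁ ∈ V.1), γ V hV hyV (b V hV hyV) ≠ 0 ∧
        ∃ h : (γ V hV hyV (b V hV hyV))⁻¹ ∈ D, (⟨_, h⟩ : D) ∈ p := fun V hV hyV => by
      have hA := hbA V hV hyV
      have h0 : γ V hV hyV (b V hV hyV) ≠ 0 := fun h0 => hA (h0 ▸ A₁.zero_mem)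
      have hc := hcD V hV hyV _ (hbs V hV hyV)
      rw [show c (γ V hV hyV (b V hV hyV)) = (γ V hV hyV (b V hV hyV))⁻¹ from if_neg hA] at hc
      refine ⟨h0, hc, (mem_maximalIdeal _).2 fun hu => hA ?_⟩
      have := (AlgSpVal.isUnit_iff_inv_mem A₁ (ψ ⟨_, hc⟩) (inv_ne_zero h0)).1 hu
      rwa [show ((ψ ⟨_, hc⟩ : A₁) : κ) = (γ V hV hyV (b V hV hyV))⁻¹ from rfl, inv_inv] at this
    have hp0 : p ≠ ⊥ := fun hp => by
      obtain ⟨h0, h, hp'⟩ := hmem V₀ hV₀ hyV₀
      rw [hp, Ideal.mem_bot] at hp'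
      exact inv_ne_zero h0 (congrArg Subtype.val hp')
    obtain ⟨R', hR', hdvr, heft, -, hcent⟩ :=
      exists_dvr_eft (A := Γ(S, U)) (isUniversallyJapanese_of_isExcellent (hS ⟨U, hU⟩)) (K := κ) p hp0
    let β' : Γ(Y, W) ⟶ CommRingCat.of R' :=
      CommRingCat.ofHom (β.hom.codRestrict R'.toSubring fun z => hR' ⟨_, hβD z⟩)
    have hβ' : β' ≫ CommRingCat.ofHom R'.subtype = β := rfl
    let sq' : ValuativeCommSq f :=
      { R := R', K := κ, i₁ := X.fromSpecResidueField y₁, i₂ := Spec.map β' ≫ hW.fromSpec,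
        commSq := ⟨by
          show _ = Spec.map (CommRingCat.ofHom R'.subtype) ≫ _
          rw [← Spec.map_comp_assoc, hβ', hβ]⟩ }
    obtain ⟨l, hl₁, hl₂⟩ := (H sq' hdvr ⟨⟨U, hU⟩, g.appLE U W hWU ≫ β', by
      show _ = (Spec.map β' ≫ hW.fromSpec) ≫ g
      rw [Spec.map_comp, Category.assoc, IsAffineOpen.SpecMap_appLE_fromSpec g hU hW hWU, Category.assoc], by
      have : (g.appLE U W hWU ≫ β').hom = ((algebraMap D κ).codRestrict R'.toSubring hR').comp (algebraMap Γ(S, U) D) := rfl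
      rw [this]; exact heft⟩).exists_lift
    have hlW : f (l (closedPoint R')) ∈ W := by
      rw [← Scheme.Hom.comp_apply, hl₂]
      show hW.fromSpec (Spec.map β' (closedPoint R')) ∈ (W : Set Y)
      rw [← hW.range_fromSpec]
      exact ⟨_, rfl⟩
    obtain ⟨V, hV, hlV⟩ := hcov' _ hlW
    have hyV : y₁ ∈ V.1 := by
      have h1 := ((specializes_closedPoint (R := R')
        (Spec.map (CommRingCat.ofHom (algebraMap R' κ)) (closedPoint κ))).map l.continuous).mem_open V.1.2 hlV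
      rw [← Scheme.Hom.comp_apply] at h1
      have h2 := congrArg (fun m : Spec κ ⟶ X => m (closedPoint κ)) hl₁
      exact (h2.trans (Scheme.fromSpecResidueField_apply y₁ _)) ▸ h1
    obtain ⟨χ, hχ⟩ := exists_affine_factor l V.2 hlV
    have hχγ : χ ≫ CommRingCat.ofHom R'.subtype = γ V hV hyV := by
      refine Spec.map_injective ((cancel_mono V.2.fromSpec).1 ?_)
      rw [Spec.map_comp, Category.assoc, hχ, hγ]
      exact hl₁
    obtain ⟨h0, hc, hpm⟩ := hmem V hV hyV
    have hn := (hcent ⟨_, hc⟩).2 hpm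
    rw [show algebraMap D κ ⟨_, hc⟩ = (γ V hV hyV (b V hV hyV))⁻¹ from rfl] at hn
    have hbR : γ V hV hyV (b V hV hyV) ∈ R' := congr($hχγ (b V hV hyV)) ▸ (χ (b V hV hyV)).2
    have hiR : (γ V hV hyV (b V hV hyV))⁻¹ ∈ R' := hR' ⟨_, hc⟩
    refine (mem_maximalIdeal _).1 (ValuationSubring.coe_mem_nonunits_iff (a := (⟨_, hiR⟩ : R')) |>.1 hn) ?_
    exact (AlgSpVal.isUnit_iff_inv_mem R' ⟨_, hiR⟩ (inv_ne_zero h0)).2 ((inv_inv (γ V hV hyV (b V hV hyV))).symm ▸ hbR)

end Groth.Agent.H4Val
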