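import Groth.Agent.H4Val.Refined
import Groth.Agent.ConsPropLib.QFFactor
import Groth.Agent.ChevSp.Geo
import Groth.Agent.MorLib.MonoSpec
import Groth.Agent.Proj16.DVRPath
import Mathlib

/-!
# Monomorphisms with lifts over discrete valuation rings are immersions
-/

set_option autoImplicit false
set_option linter.style.haveILetI false
set_option backward.isDefEq.respectTransparency false
set_option backward.isDefEq.respectTransparency.types false

universe u

open CategoryTheory Limits AlgebraicGeometry IsLocalRing TopologicalSpace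

namespace Groth.Agent.H4Val

variable {X Y : Scheme.{u}}

set_option maxHeartbeats 1000000 in
theorem exists_nhd_universallyClosed [IsLocallyNoetherian X] (f : Y ⟶ X) [Mono f] [LocallyOfFiniteType f]
    [QuasiCompact f]
    (hb : ∀ S : ValuativeCommSq f, IsDiscreteValuationRing S.R →
        (∃ l₀ : Spec (CommRingCat.of (ResidueField S.R)) ⟶ Y,
            l₀ ≫ f = Spec.map (CommRingCat.ofHom (residue S.R)) ≫ S.i₂) →
          S.commSq.HasLift)
    (y : Y) : ∃ U : X.Opens, f y ∈ U ∧ UniversallyClosed (f ∣_ U) := by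
  obtain ⟨O, hO, hyO, -⟩ := exists_isAffineOpen_mem_and_subset (x := f y) (U := (⊤ : X.Opens)) trivial
  haveI : IsAffine (O : Scheme.{u}) := hO
  haveI : IsLocallyNoetherian (O : Scheme.{u}) := inferInstance
  let g := f ∣_ O
  haveI : LocallyOfFiniteType g :=
    MorphismProperty.of_isPullback (P := @LocallyOfFiniteType) (isPullback_morphismRestrict f O).flip inferInstance
  haveI : QuasiCompact g :=
    MorphismProperty.of_isPullback (P := @QuasiCompact) (isPullback_morphismRestrict f O).flip inferInstance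
  haveI : Mono g :=
    (MorphismProperty.monomorphisms.iff _).1 (MorphismProperty.of_isPullback
      (P := MorphismProperty.monomorphisms Scheme) (isPullback_morphismRestrict f O).flip (.infer_property f))
  haveI : LocallyQuasiFinite g :=
    locallyQuasiFinite_iff_finite_preimage_singleton.2 fun x =>
      Set.Subsingleton.finite fun a ha b hb => g.injective (ha.trans hb.symm)
  obtain ⟨T, i, π, hi, hπ, hiπ⟩ := Groth.Agent.ConsPropLib.exists_finite_factor g
  haveI := hi
  haveI := hπ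
  haveI : IsLocallyNoetherian T := LocallyOfFiniteType.isLocallyNoetherian π
  haveI : QuasiCompact (i ≫ π) := by rw [hiπ]; infer_instance
  haveI : QuasiCompact i := QuasiCompact.of_comp i π
  let W : Set T := closure (Set.range i) ∩ (Set.range i)ᶜ
  have hW : IsClosed W := isClosed_closure.inter i.isOpenEmbedding.isOpen_range.isClosed_compl
  let U₀ : (O : Scheme.{u}).Opens := ⟨(π '' W)ᶜ, (π.isClosedMap _ hW).isOpen_compl⟩
  have hyU : (⟨f y, hyO⟩ : (O : Scheme.{u})) ∈ U₀ := by
    rintro ⟨w, ⟨hwc, hwr⟩, hwy⟩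
    obtain ⟨z, hz⟩ := exists_specializes_of_mem_closure i w hwc
    have hne : w ≠ i z := fun e => hwr ⟨z, e.symm⟩
    obtain ⟨A, τ, hA, hτc, hτg⟩ := Groth.Agent.Proj16.exists_dvr_path (p := 𝟙 T) (x := i z) hz
      (fun e => hne e)
    rw [Category.comp_id] at hτg
    have hrange : Set.range (T.fromSpecResidueField (i z)) ⊆ Set.range i := by
      rintro _ ⟨q, rfl⟩
      exact ⟨z, (Scheme.fromSpecResidueField_apply _ _).symm⟩
    let k := IsOpenImmersion.lift i (T.fromSpecResidueField (i z)) hrange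
    have hk : k ≫ i = T.fromSpecResidueField (i z) := IsOpenImmersion.lift_fac _ _ _
    let sq : ValuativeCommSq f :=
      { R := A, K := T.residueField (i z), i₁ := k ≫ (f ⁻¹ᵁ O).ι, i₂ := τ ≫ π ≫ O.ι,
        commSq := ⟨by
          show (k ≫ (f ⁻¹ᵁ O).ι) ≫ f = Spec.map (CommRingCat.ofHom A.subtype) ≫ τ ≫ π ≫ O.ι
          rw [reassoc_of% hτg, ← reassoc_of% hk, reassoc_of% hiπ, Category.assoc, morphismRestrict_ι]⟩ }
    have hcl : sq.i₂ (closedPoint A) = f y := by
      show O.ι (π (τ (closedPoint A))) = f y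
      rw [hτc, hwy]
      rfl
    obtain ⟨l, hl₁, hl₂⟩ := (hb sq hA (Groth.Agent.MorLib.MonoSpec.exists_lift_residue f
      (Spec.map (CommRingCat.ofHom (residue A)) ≫ sq.i₂) y (by
        rw [Scheme.Hom.comp_apply, ← hcl]
        exact congrArg sq.i₂ (IsLocalRing.comap_closedPoint (residue A))))).exists_lift
    have hlO : Set.range l ⊆ Set.range (f ⁻¹ᵁ O).ι := by
      rw [Scheme.Opens.range_ι]
      rintro _ ⟨q, rfl⟩
      show f (l q) ∈ O
      rw [← Scheme.Hom.comp_apply, hl₂]
      exact (π (τ q)).2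
    let l' := IsOpenImmersion.lift (f ⁻¹ᵁ O).ι l hlO
    have hl' : l' ≫ (f ⁻¹ᵁ O).ι = l := IsOpenImmersion.lift_fac _ _ _
    have hl'π : (l' ≫ i) ≫ π = τ ≫ π := by
      rw [← cancel_mono O.ι, Category.assoc, Category.assoc, reassoc_of% hiπ, morphismRestrict_ι,
        reassoc_of% hl', hl₂]
      exact (Category.assoc _ _ _).symm
    have hl'k : Spec.map (CommRingCat.ofHom A.subtype) ≫ l' ≫ i = T.fromSpecResidueField (i z) := by
      rw [← Category.assoc, ← hk]
      refine congrArg (· ≫ i) ((cancel_mono (f ⁻¹ᵁ O).ι).1 ?_)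
      rw [Category.assoc, hl']
      exact hl₁
    let sq' : ValuativeCommSq π :=
      { R := A, K := T.residueField (i z), i₁ := T.fromSpecResidueField (i z), i₂ := τ ≫ π,
        commSq := ⟨by
          show _ = Spec.map (CommRingCat.ofHom A.subtype) ≫ τ ≫ π
          rw [reassoc_of% hτg]⟩ }
    haveI := IsSeparated.valuativeCriterion π sq'
    have := congrArg CommSq.LiftStruct.l
      (Subsingleton.elim (α := sq'.commSq.LiftStruct) ⟨l' ≫ i, hl'k, hl'π⟩ ⟨τ, hτg, rfl⟩)
    refine hwr ⟨l' (closedPoint A), ?_⟩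
    rw [← hτc]
    exact congrArg (fun m : Spec (CommRingCat.of A) ⟶ T => m (closedPoint A)) this
  refine ⟨O.ι ''ᵁ U₀, ⟨⟨f y, hyO⟩, hyU, rfl⟩, ?_⟩
  refine (MorphismProperty.arrow_mk_iso_iff @UniversallyClosed (morphismRestrictRestrict f O U₀)).1 ?_
  let e := i ∣_ (π ⁻¹ᵁ U₀)
  have he : IsClosedImmersion e := by
    haveI : IsOpenImmersion e := inferInstance
    refine .of_isPreimmersion _ ?_
    have : Set.range e = (π ⁻¹ᵁ U₀).ι ⁻¹' closure (Set.range i) := by
      ext t
      constructor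
      · rintro ⟨q, rfl⟩
        refine subset_closure ⟨(i ⁻¹ᵁ π ⁻¹ᵁ U₀).ι q, ?_⟩
        rw [← Scheme.Hom.comp_apply, ← morphismRestrict_ι, Scheme.Hom.comp_apply]
      · intro ht
        by_contra hn
        refine (t.2 : π ((π ⁻¹ᵁ U₀).ι t) ∈ U₀) ⟨(π ⁻¹ᵁ U₀).ι t, ⟨ht, ?_⟩, rfl⟩
        rintro ⟨q, hq⟩
        refine hn ⟨⟨q, show i q ∈ π ⁻¹ᵁ U₀ by rw [hq]; exact t.2⟩, (π ⁻¹ᵁ U₀).ι.isOpenEmbedding.injective ?_⟩
        rw [← Scheme.Hom.comp_apply, morphismRestrict_ι, Scheme.Hom.comp_apply]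
        exact hq
    rw [this]
    exact isClosed_closure.preimage (π ⁻¹ᵁ U₀).ι.continuous
  haveI : IsFinite (π ∣_ U₀) :=
    MorphismProperty.of_isPullback (P := @IsFinite) (isPullback_morphismRestrict π U₀).flip inferInstance
  have hc : UniversallyClosed (e ≫ π ∣_ U₀) := inferInstance
  rw [show e ≫ π ∣_ U₀ = (i ≫ π) ∣_ U₀ from (morphismRestrict_comp i π U₀).symm] at hc
  exact (MorphismProperty.arrow_mk_iso_iff @UniversallyClosed (eqToIso (congrArg (fun m => Arrow.mk (m ∣_ U₀)) hiπ))).1 hc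

theorem isImmersion_of_dvr_lifts [IsLocallyNoetherian X] (f : Y ⟶ X) [Mono f] [LocallyOfFiniteType f]
    [QuasiCompact f]
    (hb : ∀ S : ValuativeCommSq f, IsDiscreteValuationRing S.R →
        (∃ l₀ : Spec (CommRingCat.of (ResidueField S.R)) ⟶ Y,
            l₀ ≫ f = Spec.map (CommRingCat.ofHom (residue S.R)) ≫ S.i₂) →
          S.commSq.HasLift) : IsImmersion f := by
  choose U hyU hU using exists_nhd_universallyClosed f hb
  let V : X.Opens := ⨆ y, U y
  have hfV : Set.range f ⊆ Set.range V.ι := by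
    rw [Scheme.Opens.range_ι]
    rintro _ ⟨y, rfl⟩
    exact Opens.mem_iSup.2 ⟨y, hyU y⟩
  let f' := IsOpenImmersion.lift V.ι f hfV
  have hf' : f' ≫ V.ι = f := IsOpenImmersion.lift_fac _ _ _
  haveI : Mono f' := by
    have : Mono (f' ≫ V.ι) := hf' ▸ inferInstance
    exact mono_of_mono f' V.ι
  haveI : LocallyOfFiniteType f' := by
    have : LocallyOfFiniteType (f' ≫ V.ι) := hf' ▸ inferInstance
    exact locallyOfFiniteType_of_comp f' V.ι
  haveI : UniversallyClosed f' := by
    refine (IsZariskiLocalAtTarget.iff_of_iSup_eq_top (P := @UniversallyClosed) (fun y => V.ι ⁻¹ᵁ U y) ?_).2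
      fun y => ?_
    · rw [← Scheme.Hom.preimage_iSup]
      exact Scheme.Opens.ι_preimage_self V
    · have hpre : f' ⁻¹ᵁ (V.ι ⁻¹ᵁ U y) = f ⁻¹ᵁ U y := by rw [← Scheme.Hom.comp_preimage, hf']
      have hsq : (Scheme.isoOfEq Y hpre).hom ≫ f ∣_ U y = (f' ∣_ (V.ι ⁻¹ᵁ U y)) ≫ V.ι ∣_ U y := by
        rw [← cancel_mono (U y).ι]
        simp only [Category.assoc, morphismRestrict_ι, morphismRestrict_ι_assoc, hf', Scheme.isoOfEq_hom_ι_assoc]
      haveI : IsIso (V.ι ∣_ U y) := by
        haveI : Surjective (V.ι ∣_ U y) := ⟨fun u => by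
          have hu : (u.1 : X) ∈ V := Opens.mem_iSup.2 ⟨y, u.2⟩
          refine ⟨⟨⟨u.1, hu⟩, u.2⟩, (U y).ι.isOpenEmbedding.injective ?_⟩
          rw [← Scheme.Hom.comp_apply, morphismRestrict_ι]
          rfl⟩
        exact (isIso_iff_isOpenImmersion_and_surjective _).2 ⟨inferInstance, inferInstance⟩
      haveI := hU y
      have : f' ∣_ (V.ι ⁻¹ᵁ U y) = ((Scheme.isoOfEq Y hpre).hom ≫ f ∣_ U y) ≫ inv (V.ι ∣_ U y) := by
        rw [hsq, Category.assoc, IsIso.hom_inv_id, Category.comp_id]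
      rw [this]
      infer_instance
  haveI : IsClosedImmersion f' := Groth.Agent.ChevSp.isClosedImmersion_of_mono f'
  rw [← hf']
  infer_instance

end Groth.Agent.H4Val
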